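set_option autoImplicit false
namespace Cfsg.Agent.Lib.Helper6.TCD.HeK
noncomputable def WDL0 (i : Nat) : Nat := Nat.land (Nat.shiftRight 0x313104000000000000001212120600000000000000212121060000000000000000040404000000000000000040400400000000000000000303040000000000000000303004000000000000000002020400000000000000002020040000000000000101010108000000000000101010100800000000000000000044020000000000000000003302000000000000000000220200000000000000000011020000000000000000000002 (Nat.mul 88 (Nat.land i 15))) 309485009821345068724781055
noncomputable def WDL1 (i : Nat) : Nat := Nat.land (Nat.shiftRight 0x12012401200a000000000020124012010a000000000001240120120a000000000012401201200a000000000024012012010a000000000040120120120a000000000001201201240a000000000000003434340600000000000000434343060000000000000000242404000000000000000042420423232323232323232323143232323232323232323214000000000000000014140400000000000000004141040000000000000000131304 (Nat.mul 88 (Nat.land i 15))) 309485009821345068724781055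
noncomputable def WDP0N0 (i : Nat) : Nat := Bool.rec (WDL0 i) (WDL1 i) (Nat.ble 16 i)
noncomputable def WDL2 (i : Nat) : Nat := Nat.land (Nat.shiftRight 0x302323232320b000000000023232323230b000000000232323232300b000000000021021021040a000000000010210210420a000000000002102104210a000000000021021042100a000000000010210421020a000000000002104210210a000000000021042102100a000000000010421021020a000000000004210210210a000000000042102102100a000000000012012012400a000000000020120124010a000000000001201240120a (Nat.mul 88 (Nat.land i 15))) 309485009821345068724781055
noncomputable def WDP0N1 (i : Nat) : Nat := Bool.rec (WDP0N0 i) (WDL2 i) (Nat.ble 32 i)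
noncomputable def WDL3 (i : Nat) : Nat := Nat.land (Nat.shiftRight 0x232323203230b000000000323232032320b000000000232320323230b000000000323203232320b000000000232032323230b000000000320323232320b000000000203232323230b000000000032323232320b000000000323232323020b000000000232323230230b000000000323232302320b000000000232323023230b000000000323230232320b000000000232302323230b000000000323023232320b000000000230232323230b (Nat.mul 88 (Nat.land i 15))) 309485009821345068724781055
noncomputable def WDL4 (i : Nat) : Nat := Nat.land (Nat.shiftRight 0x323232323200b000000000232323232030b000000000323232320320b (Nat.mul 88 (Nat.land i 15))) 309485009821345068724781055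
noncomputable def WDP0N2 (i : Nat) : Nat := Bool.rec (WDL3 i) (WDL4 i) (Nat.ble 64 i)
noncomputable def WD (i : Nat) : Nat := Bool.rec (WDP0N1 i) (WDP0N2 i) (Nat.ble 48 i)
end Cfsg.Agent.Lib.Helper6.TCD.HeK
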