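set_option autoImplicit false
namespace Cfsg.Agent.Lib.Helper6.TCD.HeK
noncomputable def WI (i : Nat) : Nat := Nat.land (Nat.shiftRight 0x42842122108108388418420a2104108188408420221001005080244010200710030801440082003100108004400021090f8407c1c3e0c1f050f8207c0c3e041f010f80078243c101e070f03078143c081e030f01078043c001e010e000700434001a010c00060042c0016010a0005004240012010800040041c000e0106000300414000a000400018000800020000 (Nat.mul 17 (Nat.land i 255))) 131071
end Cfsg.Agent.Lib.Helper6.TCD.HeK
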