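import Cfsg.Agent.Lib.Helper6.TCD.HeK.SH
import Cfsg.Agent.Lib.Helper6.TCD.HeK.SC
import Cfsg.Agent.Lib.Helper6.TCD.HeK.NH
import Cfsg.Agent.Lib.Helper6.TCD.HeK.NC
import Cfsg.Agent.Lib.Helper6.TCD.HeK.WD
import Cfsg.Agent.Lib.Helper6.TCD.HeK.WI
import Cfsg.Agent.Lib.Helper6.TCD.HeK.P0
import Cfsg.Agent.Lib.Helper6.TCD.HeK.P1
import Cfsg.Agent.Lib.Helper6.TCD.HeK.P2
import Cfsg.Agent.Lib.Helper6.TCD.HeK.P3
import Cfsg.Agent.Lib.Helper6.TCD.HeK.P4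
import Cfsg.Agent.Lib.Helper6.TCD.HeK.GT
import Cfsg.Agent.Lib.Helper6.TCD.HeK.Q12
set_option autoImplicit false
namespace Cfsg.Agent.Lib.Helper6.TCD.HeK
def n : Nat := 15274
def ncol : Nat := 5
def nrw : Nat := 67
def nw : Nat := 67
def tmax : Nat := 76073
def INV : Nat := 274960
def N : Nat := 15120
noncomputable def px (c p : Nat) : Nat := Nat.rec (motive := fun _ => Nat) (P0 p) (fun k0 _ => Nat.rec (motive := fun _ => Nat) (P1 p) (fun k1 _ => Nat.rec (motive := fun _ => Nat) (P2 p) (fun k2 _ => Nat.rec (motive := fun _ => Nat) (P3 p) (fun k3 _ => P4 p) k2) k1) k0) c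
noncomputable def R5 (p : Nat) : Nat := P1 (P0 (P1 (P0 (P1 (P0 (P1 (P0 p)))))))
noncomputable def R6 (p : Nat) : Nat := P2 (P0 (P2 (P0 p)))
noncomputable def R7 (p : Nat) : Nat := P3 (P0 (P3 (P0 p)))
noncomputable def R8 (p : Nat) : Nat := P4 (P0 (P4 (P0 p)))
noncomputable def R9 (p : Nat) : Nat := P2 (P1 (P2 (P1 (P2 (P1 p)))))
noncomputable def R10 (p : Nat) : Nat := P3 (P1 (P3 (P1 p)))
noncomputable def R11 (p : Nat) : Nat := P4 (P1 (P4 (P1 p)))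
noncomputable def U12 (p : Nat) : Nat := P3 (P2 p)
noncomputable def R12 (p : Nat) : Nat := Q12 (Q12 (Q12 (Q12 (Q12 (Q12 (Q12 (Q12 (Q12 (Q12 p)))))))))
noncomputable def R13 (p : Nat) : Nat := P4 (P2 (P4 (P2 p)))
noncomputable def R14 (p : Nat) : Nat := P4 (P3 (P4 (P3 (P4 (P3 p)))))
noncomputable def R15 (p : Nat) : Nat := P0 (P1 (P2 (P0 (P1 (P2 (P0 (P1 (P2 (P4 p)))))))))
noncomputable def R16 (p : Nat) : Nat := P2 (P3 (P2 (P3 (P2 (P3 (P2 (P3 (P2 (P3 (P0 p))))))))))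
end Cfsg.Agent.Lib.Helper6.TCD.HeK
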