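import Cfsg.Agent.Lib.Helper6.TC13
import Cfsg.Agent.Lib.Helper6.TCD.HeK.Par
set_option autoImplicit false
set_option maxRecDepth 1000000
set_option Elab.async false
open Cfsg.Agent.Lib.Helper6.TC
namespace Cfsg.Agent.Lib.Helper6.TCD.HeK
theorem chkR5_0 : chkFix R5 0 15120 = true := by decide +kernel
theorem chkR6_0 : chkFix R6 0 15120 = true := by decide +kernel
theorem chkR7_0 : chkFix R7 0 15120 = true := by decide +kernel
theorem chkR8_0 : chkFix R8 0 2020 = true := by decide +kernel
end Cfsg.Agent.Lib.Helper6.TCD.HeK
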