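import Cfsg.Agent.Lib.Helper6.TC13
import Cfsg.Agent.Lib.Helper6.TCD.HeK.Par
set_option autoImplicit false
set_option maxRecDepth 1000000
set_option Elab.async false
open Cfsg.Agent.Lib.Helper6.TC
namespace Cfsg.Agent.Lib.Helper6.TCD.HeK
theorem chkR13_1 : chkFix R13 9840 5280 = true := by decide +kernel
theorem chkR14_0 : chkFix R14 0 15120 = true := by decide +kernel
theorem chkR15_0 : chkFix R15 0 13816 = true := by decide +kernel
end Cfsg.Agent.Lib.Helper6.TCD.HeK
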