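import Cfsg.Agent.Lib.Helper6.TCD.HeK.CS0
import Cfsg.Agent.Lib.Helper6.TCD.HeK.CS1
import Cfsg.Agent.Lib.Helper6.TCD.HeK.CS2
import Cfsg.Agent.Lib.Helper6.TCD.HeK.CS3
import Cfsg.Agent.Lib.Helper6.TCD.HeK.CS4
import Cfsg.Agent.Lib.Helper6.TCD.HeK.CS5
import Cfsg.Agent.Lib.Helper6.TCD.HeK.CS6
import Cfsg.Agent.Lib.Helper6.TCD.HeK.CS7
import Cfsg.Agent.Lib.Helper6.TCD.HeK.CS8
import Cfsg.Agent.Lib.Helper6.TCD.HeK.CS9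
import Cfsg.Agent.Lib.Helper6.TCD.HeK.CN0
import Cfsg.Agent.Lib.Helper6.TCD.HeK.CN1
import Cfsg.Agent.Lib.Helper6.TCD.HeK.CN2
import Cfsg.Agent.Lib.Helper6.TCD.HeK.CC
import Cfsg.Agent.Lib.Helper6.TCD.HeK.CPa0
import Cfsg.Agent.Lib.Helper6.TCD.HeK.CPa1
import Cfsg.Agent.Lib.Helper6.TCD.HeK.CPb
import Cfsg.Agent.Lib.Helper6.TCD.HeK.CR0
import Cfsg.Agent.Lib.Helper6.TCD.HeK.CR1
import Cfsg.Agent.Lib.Helper6.TCD.HeK.CR2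
import Cfsg.Agent.Lib.Helper6.TCD.HeK.CR3
import Cfsg.Agent.Lib.Helper6.TCD.HeK.CR4
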